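import Groth.Agent.Synt.K561.SynLci
import Groth.Agent.S1830
import Groth.Agent.S2217
import Groth.Agent.Disc.K576.DiffFitt

/-!
# The trace of a finite free local complete intersection is in `Fitt₀(Ω) · Hom(B, A)`

* `isLCI_of_smooth`: a map of smooth `R`-algebras is a local complete intersection;
* `invertible_omega`: for a finite free local complete intersection `A → B` the module `Hom_A(B, A)` is
  invertible (`A` need not be Noetherian);
* `exists_trace_eq`: the trace is a sum of functionals `x ↦ φᵢ (dᵢ x)` with `dᵢ` in the Kähler different.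
-/

set_option autoImplicit false
universe u

noncomputable section

namespace K871.TrLci

open CategoryTheory AlgebraicGeometry TensorProduct Groth.Agent.Models2 Disc KaehlerDifferential
open Groth.Agent.Dual.H375.LciLocus

/-- A map of smooth `R`-algebras is a local complete intersection. -/
theorem isLCI_of_smooth (R A B : Type u) [CommRing R] [CommRing A] [CommRing B] [Algebra R A] [Algebra R B]
    [Algebra A B] [IsScalarTower R A B] [Algebra.Smooth R A] [Algebra.Smooth R B] : LCI.IsLCI A B := by
  rw [← K561.SynLci.LM_spec_iff]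
  have hA : Smooth (Spec.map (CommRingCat.ofHom (algebraMap R A))) := by
    rw [HasRingHomProperty.Spec_iff (P := @Smooth)]
    exact RingHom.smooth_algebraMap.mpr inferInstance
  have hB : Smooth (Spec.map (CommRingCat.ofHom (algebraMap R B))) := by
    rw [HasRingHomProperty.Spec_iff (P := @Smooth)]
    exact RingHom.smooth_algebraMap.mpr inferInstance
  refine K561.LciDict.LM_of_comp_smooth _ (Spec.map (CommRingCat.ofHom (algebraMap R A))) ?_
  rw [← Spec.map_comp, ← CommRingCat.ofHom_comp, ← IsScalarTower.algebraMap_eq]
  exact K561.LciDict.LM_smooth _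

variable (A B : Type u) [CommRing A] [CommRing B] [Algebra A B]

/-- `Hom_A(B, A)` is invertible for finite free local complete intersections. -/
theorem invertible_omega [Module.Finite A B] [Module.Free A B] (hlci : LCI.IsLCI A B) :
    Module.Invertible B (Disc.Omega A B) := by
  have h : ∀ (p : Ideal A) [p.IsPrime], LocCoh.IsGorensteinRing (p.Fiber B) := fun p hp =>
    Groth.Agent.LoccohB.GorBasic.isGorensteinRing_of_ringEquiv
      (Algebra.TensorProduct.comm A B p.ResidueField).toRingEquiv
      (Groth.Agent.S1830.result A B hlci ⟨p, hp⟩)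
  let b := Module.Free.chooseBasis A B
  classical
  apply OmegaFree.invertible_of_end (OmegaFree.exists_smul_of_end b)
  rw [← LinearMap.range_eq_top]
  by_contra hne
  obtain ⟨q, hq, hle⟩ := Ideal.exists_le_maximal _ hne
  let p := q.comap (algebraMap A B)
  have hint : (algebraMap A B).IsIntegral := algebraMap_isIntegral_iff.2 inferInstance
  have hp : p.IsMaximal := Ideal.isMaximal_comap_of_isIntegral_of_isMaximal' _ hint q
  have hG := h p
  have hfin : Module.Finite p.ResidueField (p.Fiber B) := inferInstance
  obtain ⟨l', hl'⟩ := Frobenius.exists_isFrob_of_isGorensteinRing (k := p.ResidueField)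
    (C := p.Fiber B)
  choose a ha using fun i => Ideal.algebraMap_residueField_surjective p (l' (1 ⊗ₜ b i))
  let l : Omega A B := ⟨b.constr A a⟩
  have hl : OmegaFree.bc p.ResidueField l = ⟨l'⟩ := by
    apply Omega.toLinearMap_injective
    apply (Algebra.TensorProduct.basis p.ResidueField b).ext
    intro i
    rw [Algebra.TensorProduct.basis_apply, OmegaFree.bc_tmul, mul_one]
    simp [l, ha]
  have hdet : (OmegaFree.gram (Algebra.TensorProduct.basis p.ResidueField b)
      (OmegaFree.bc p.ResidueField l)).det ≠ 0 := by
    apply Groth.Agent.S2217.isFrob_iff_det_ne_zero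
    rw [hl]
    exact hl'
  rw [OmegaFree.gram_bc, ← RingHom.mapMatrix_apply, ← RingHom.map_det] at hdet
  have hdp : (OmegaFree.gram b l).det ∉ p := by
    intro hmem
    exact hdet (Ideal.algebraMap_residueField_eq_zero.2 hmem)
  have hmem : algebraMap A B ((OmegaFree.gram b l).det ^ 2) ∈ q := by
    apply hle
    refine ⟨OmegaFree.adjLin b l ⊗ₜ l, ?_⟩
    rw [contractLeft_apply, OmegaFree.adjLin_self]
  exact hdp (hp.isPrime.mem_of_pow_mem 2 hmem)

/-- The trace is in the Kähler different times `Hom_A(B, A)`. -/
theorem exists_trace_eq [Module.Finite A B] [Module.Free A B] (hlci : LCI.IsLCI A B) :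
    ∃ (ι : Type u) (s : Finset ι) (d : ι → B) (l : ι → Omega A B), (∀ i ∈ s, d i ∈ Fitt.ideal B (Ω[B⁄A]) 0) ∧
      ∀ x : B, Algebra.trace A B x = ∑ i ∈ s, (l i).toLinearMap (d i * x) := by
  classical
  have hinv := invertible_omega A B hlci
  obtain ⟨s, hs⟩ := DiscDual.exists_sum_eq_one (B := B) (Omega A B)
  have key : Omega.trace A B = ∑ q ∈ s, q.1 (Omega.trace A B) • q.2 := by
    conv_lhs => rw [← one_smul B (Omega.trace A B), ← hs, Finset.sum_smul]
    exact Finset.sum_congr rfl fun q _ => DiscDual.invertible_swap q.1 q.2 (Omega.trace A B)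
  refine ⟨Module.Dual B (Omega A B) × Omega A B, s, fun q => q.1 (Omega.trace A B), fun q => q.2, ?_, ?_⟩
  · intro q _
    rw [← K576.DiffFitt.noetherDifferent_eq_fitt hlci, DiscDual.mem_noetherDifferent_iff_hom]
    exact ⟨q.1, rfl⟩
  · intro x
    have h := congrArg (fun l : Omega A B => l.toLinearMap x) key
    simp only [DiscDual.sum_toLinearMap, Omega.smul_toLinearMap_apply] at h
    exact h

end K871.TrLci
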