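import Groth.Agent.EtCoh.K961.Chart
import Groth.Agent.EtCoh.K871.TrLci
import Groth.Agent.EtCoh.K103.FitW
import Mathlib.RingTheory.Smooth.Basic
import Mathlib.RingTheory.Localization.NormTrace

/-!
# The trace of two-forms of a finite free cover is integral

`trace_form`: `A → B` finite free, `A` and `B` smooth over `R`, coordinates `F₀` on `A` which stay coordinates on
`A' = A[1/g]` and on `B' = B[1/g]`. The trace to `A'` of a two-form of `B` comes from a two-form of `A`.

The trace lies in `Fitt₀(Ω[B⁄A]) · Hom_A(B, A)` (Tate duality), and `Fitt₀(Ω[B⁄A])` maps `Ω²_B` to `B · dx₀ ∧ dx₁`.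
-/

set_option autoImplicit false
universe u v

noncomputable section

namespace K871.TrForm

open KaehlerDifferential K611.Gam K611.Gam2 K611.Frame K611.Top Disc K961

/-- The trace of a two-form of a finite free cover with smooth source and target is integral. -/
theorem trace_form (R : Type u) [CommRing R] {A B : Type u} [CommRing A] [CommRing B] [Algebra R A] [Algebra R B]
    [Algebra A B] [IsScalarTower R A B] [Algebra.Smooth R A] [Algebra.Smooth R B] [Module.Finite A B] [Module.Free A B]
    (F₀ : Fr A (Fin 2)) (g : A)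
    {A' B' : Type u} [CommRing A'] [CommRing B'] [Algebra A A'] [IsLocalization.Away g A']
    [Algebra B B'] [IsLocalization.Away (algebraMap A B g) B'] [Algebra A' B'] [Algebra A B'] [IsScalarTower A A' B']
    [IsScalarTower A B B'] (F : Fr A' (Fin 2)) (hF : ∀ i, F.x i = algebraMap A A' (F₀.x i))
    (G : Fr B' (Fin 2)) (hG : ∀ i, G.x i = algebraMap A' B' (F.x i)) (η : Om2 B) :
    ∃ ω : Om2 A, omap2 (algebraMap A A') ω = tr2 F G (omap2 (algebraMap B B') η) := by
  classical
  obtain ⟨ι, s, dd, l, hs, htr⟩ := K871.TrLci.exists_trace_eq A B (K871.TrLci.isLCI_of_smooth R A B)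
  set f : B' := det G (omap2 (algebraMap B B') η) with hf
  have hx : ∀ i, algebraMap B B' (algebraMap A B (F₀.x i)) = G.x i := by
    intro i
    rw [hG, hF, ← IsScalarTower.algebraMap_apply, ← IsScalarTower.algebraMap_apply]
  have hvol : omap2 (algebraMap B B') (w (D ℤ B (algebraMap A B (F₀.x 0))) (D ℤ B (algebraMap A B (F₀.x 1)))) =
      vol G := by
    rw [omap2_w, omap_D, omap_D, hx, hx, vol]
  -- denominators
  have h1 : ∀ q ∈ s, ∃ c : B, algebraMap B B' (dd q) * f = algebraMap B B' c := by
    intro q hq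
    obtain ⟨c, hc⟩ := K103.FitW.fitt_smul F₀ (hs q hq) η
    refine ⟨c, ?_⟩
    have h2 := congrArg (det G) (congrArg (omap2 (algebraMap B B')) hc)
    rwa [omap2_smul, omap2_smul, map_smul, map_smul, hvol, det_vol, smul_eq_mul, smul_eq_mul, mul_one, ← hf] at h2
  choose! c hc using h1
  obtain ⟨N, b, hb⟩ := IsLocalization.Away.surj (algebraMap A B g) f
  have h3 : ∀ q ∈ s, ∃ M : ℕ, algebraMap A B g ^ M * (dd q * b) = algebraMap A B g ^ M * (algebraMap A B g ^ N * c q) := by
    intro q hq
    have : algebraMap B B' (dd q * b) = algebraMap B B' (algebraMap A B g ^ N * c q) := by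
      rw [map_mul, ← hb, map_mul, ← hc q hq, map_pow]
      ring
    obtain ⟨⟨_, M, rfl⟩, hM⟩ := (IsLocalization.eq_iff_exists (Submonoid.powers (algebraMap A B g)) B').1 this
    exact ⟨M, hM⟩
  choose! M hM using h3
  let m := s.sup M
  have h4 : ∀ q ∈ s, algebraMap A B g ^ m * (dd q * b) = algebraMap A B g ^ m * (algebraMap A B g ^ N * c q) := by
    intro q hq
    have hle : M q ≤ m := Finset.le_sup hq
    obtain ⟨k, hk⟩ := Nat.exists_eq_add_of_le hle
    rw [hk, pow_add, mul_comm (algebraMap A B g ^ M q), mul_assoc, hM q hq]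
    ring
  let a : A := ∑ q ∈ s, (l q).toLinearMap (c q)
  have h5 : g ^ m * Algebra.trace A B b = g ^ (m + N) * a := by
    rw [htr, Finset.mul_sum, Finset.mul_sum]
    refine Finset.sum_congr rfl fun q hq => ?_
    have h51 : g ^ m • (dd q * b) = g ^ (m + N) • c q := by
      rw [Algebra.smul_def, Algebra.smul_def, map_pow, map_pow, h4 q hq, pow_add, mul_assoc]
    have h52 := congrArg (l q).toLinearMap h51
    rwa [map_smul, map_smul, smul_eq_mul, smul_eq_mul] at h52
  refine ⟨a • vol F₀, ?_⟩
  have hvolF : omap2 (algebraMap A A') (vol F₀) = vol F := by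
    rw [vol, omap2_w, omap_D, omap_D, ← hF, ← hF, vol]
  rw [omap2_smul, hvolF, tr2_apply, ← hf]
  congr 1
  have hlocB : IsLocalization (Algebra.algebraMapSubmonoid B (Submonoid.powers g)) B' := by
    rw [Algebra.algebraMapSubmonoid_powers]
    infer_instance
  have h6 : Algebra.trace A' B' (algebraMap B B' b) = algebraMap A A' (Algebra.trace A B b) :=
    Algebra.trace_localization A (Submonoid.powers g) b
  have hu : IsUnit (algebraMap A A' g) := IsLocalization.Away.algebraMap_isUnit g
  have h7 : algebraMap B B' b = (algebraMap A A' g) ^ N • f := by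
    rw [← hb, Algebra.smul_def, map_pow, ← IsScalarTower.algebraMap_apply, ← IsScalarTower.algebraMap_apply,
      mul_comm]
  rw [h7, map_smul, smul_eq_mul] at h6
  have h8 := congrArg (algebraMap A A') h5
  rw [map_mul, map_mul, ← h6, map_pow, map_pow, pow_add, mul_assoc] at h8
  exact ((hu.pow N).mul_left_cancel ((hu.pow m).mul_left_cancel h8)).symm

end K871.TrForm
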